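import Groth.Agent.AgPol.K465.TorsSec
import Groth.Agent.AgPol.K515.RankFam
import Groth.Agent.S14161

/-!
# A section of `3 j` times a polarisation class vanishing at the `N`-torsion points is zero (piece INJ of node QP)
-/

set_option autoImplicit false
universe u

open CategoryTheory Limits MonoidalCategory CartesianMonoidalCategory AlgebraicGeometry
open scoped MonObj

namespace K382.Inj

open Groth.Agent Groth.Agent.Grpsch.PicGrp Groth.Agent.Fdesc.LocGen K117.Ag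

/-- **(INJ)** -/
theorem inj_of (h14161 : K515.PolFinMain.Stmt14161.{u}) {S : Scheme.{u}} (A : Over S) [GrpObj A] [IsCommMonObj A]
    {g d : ℕ} (hg : 1 ≤ g) (hA : AgPol.IsAbSch A g) {c : Pic A.left} (hc : IsPolCl A d c) (j : ℕ) (hj : 1 ≤ j)
    (Ω : Type u) [Field Ω] [IsAlgClosed Ω] (t : Spec (CommRingCat.of Ω) ⟶ S) (N : ℕ) (hN : (N : Ω) ≠ 0)
    (hb : ((2 * (3 * j)) ^ g * d) ^ 2 * g.factorial < N ^ 2) (F : (Red.bc t A).left.Modules)
    (hF : PicF.IsInvertible F) (hFc : mk F hF = pull (pullback.fst A.hom t) (c ^ (3 * j))) (s : Γ(F, ⊤))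
    (hs : ∀ x : 𝟙_ (Over (Spec (CommRingCat.of Ω))) ⟶ Red.bc t A, x ^ N = 1 → pullTop x.left s = 0) : s = 0 := by
  by_contra hs0
  have hAb := K533.PolBC.isAbSch_bc t hA
  have hcb := K515.RankFam.isPolCl_bc t hA hc
  have i3 : IsCommMonObj (Red.bc t A) := K533.PolBC.isCommMonObj_bc t
  obtain ⟨M, hM, hMc⟩ := exists_mk (pull (pullback.fst A.hom t) c ^ j)
  have hMa := (K515.RankPol.rank h14161 (Red.bc t A) g d hAb hcb j hj M hM hMc.symm).1
  have hFc' : mk F hF = pull (pullback.fst A.hom t) c ^ (3 * j) := by rw [hFc, map_pow]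
  have hr := (K515.RankPol.rank h14161 (Red.bc t A) g d hAb hcb (3 * j) (by omega) F hF hFc').2
  have he : Nonempty (F ≅ CohB1.tensorPow M 3) := by
    rw [← mk_eq_iff hF (isInvertible_tensorPow hM 3), mk_tensorPow hM 3, hFc', ← hMc, ← pow_mul, mul_comm]
  obtain ⟨x, hx, hxs⟩ := K465.TorsSec.main Ω (Red.bc t A) g N hg hAb hN M F hMa he (by
    rw [hr]; exact hb) s hs0
  exact hxs (hs x hx)

/-- **(INJ)**, unconditional. -/
theorem inj {S : Scheme.{u}} (A : Over S) [GrpObj A] [IsCommMonObj A]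
    {g d : ℕ} (hg : 1 ≤ g) (hA : AgPol.IsAbSch A g) {c : Pic A.left} (hc : IsPolCl A d c) (j : ℕ) (hj : 1 ≤ j)
    (Ω : Type u) [Field Ω] [IsAlgClosed Ω] (t : Spec (CommRingCat.of Ω) ⟶ S) (N : ℕ) (hN : (N : Ω) ≠ 0)
    (hb : ((2 * (3 * j)) ^ g * d) ^ 2 * g.factorial < N ^ 2) (F : (Red.bc t A).left.Modules)
    (hF : PicF.IsInvertible F) (hFc : mk F hF = pull (pullback.fst A.hom t) (c ^ (3 * j))) (s : Γ(F, ⊤))
    (hs : ∀ x : 𝟙_ (Over (Spec (CommRingCat.of Ω))) ⟶ Red.bc t A, x ^ N = 1 → pullTop x.left s = 0) : s = 0 :=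
  inj_of (fun S _ A At _ _ _ _ => Groth.Agent.S14161.result S A At) A hg hA hc j hj Ω t N hN hb F hF hFc s hs

end K382.Inj
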