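import Groth.Agent.AgPol.K399.LevLoc
import Groth.Agent.AgPol.K817.Closed
import Groth.Agent.AgPol.K515.QPTors

/-!
# The torsion points used for quasi-projectivity (piece LEV of node QP)

A core family with a level-`n` structure acquires, after a Galois covering, finitely many sections killed by
`N = n ^ r` which give all the points killed by `N` on every geometric fibre, along which the class of the polarisation is
trivial, and among which are the given sections.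
-/

set_option autoImplicit false
universe u

open CategoryTheory Limits MonoidalCategory CartesianMonoidalCategory AlgebraicGeometry
open scoped MonObj

namespace K382.Lev

open Groth.Agent Groth.Agent.Grpsch.PicGrp K117.Ag

/-- `n` is invertible on the base of a level-`n` structure. -/
theorem isUnit_of_level {T : Scheme.{u}} (A : Over T) [GrpObj A] [IsCommMonObj A] {g n : ℕ} (hg : 1 ≤ g) (hn : 1 ≤ n)
    (hA : AgPol.IsAbSch A g) {σ : Fin (2 * g) → (𝟙_ (Over T) ⟶ A)} (hσ : AgPol.IsLevelStr A g n σ) :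
    IsUnit (n : Γ(T, ⊤)) := by
  have h1 : Set.range (𝟙 T : T ⟶ T) ⊆ (T.basicOpen (n : Γ(T, ⊤)) : Set T) :=
    (K399.LevMain.subset_basicOpen_iff (𝟙 T) n).2 fun Ω _ _ t =>
      (K399.LevLoc.card_iff A g n hg hn hA Ω t).1 (hσ.2 Ω t).2
  refine T.toRingedSpace.isUnit_of_isUnit_germ ⊤ _ fun x _ => ?_
  exact (T.mem_basicOpen_top (n : Γ(T, ⊤)) x).1 (h1 ⟨x, rfl⟩)

/-- **(LEV)** -/
theorem lev (hLC : Node.LevelCover.{u}) {g d n : ℕ} (hg : 1 ≤ g) (hn : 2 ≤ n) (M : Over SZ.{u}) (ξ : Core M g)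
    [IsNoetherian M.left] (hok : Core.ok g d n M ξ) (Q : ℕ) :
    ∃ (N : ℕ) (W : Over SZ.{u}) (p : W ⟶ M) (G : Type u) (_ : Group G) (_ : Finite G) (ρ : G →* Aut W.left)
      (J : Type) (_ : Fintype J) (x : J → (𝟙_ (Over W.left) ⟶ (ξ.pull p).X)),
      Q < N ^ 2 ∧ IsFinite p.left ∧ Etale p.left ∧ SGA1.IsQuot ρ p.left ∧ (∀ a, x a ^ N = 1) ∧
      (∀ a, pull (x a).left (ξ.pull p).c = 1) ∧ (∃ a, x a = η[(ξ.pull p).X]) ∧
      (∀ i, ∃ a, x a = (ξ.pull p).σ i) ∧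
      ∀ (Ω : Type u) [Field Ω] [IsAlgClosed Ω] (w : Spec (CommRingCat.of Ω) ⟶ W.left), (N : Ω) ≠ 0 ∧
        ∀ y : 𝟙_ (Over (Spec (CommRingCat.of Ω))) ⟶ Red.bc w (ξ.pull p).X, y ^ N = 1 →
          ∃ a, y = secBc w (x a) := by
  have hc := hok.comm
  have hu : IsUnit (n : Γ(M.left, ⊤)) := isUnit_of_level ξ.X hg (by omega) hok.ab hok.level
  -- exponents
  set r := Q + 1 with hr
  have hQ : Q < n ^ r := (Nat.lt_pow_self (by omega : 1 < n)).trans_le' (by omega)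
  have hpos : 1 ≤ n ^ r := Nat.one_le_pow _ _ (by omega)
  have hu' : IsUnit ((n * n ^ (2 * Q + 1) : ℕ) : Γ(M.left, ⊤)) := by
    rw [Nat.cast_mul, Nat.cast_pow]
    exact hu.mul (hu.pow _)
  obtain ⟨W, p, G, _, _, ρ, h1, h2, h3, h4, τ, h5, h6⟩ := hLC M g d n (n ^ (2 * Q + 1)) hg (by omega)
    (Nat.one_le_pow _ _ (by omega)) ξ hok hu'
  have hNN : n * n ^ (2 * Q + 1) = n ^ r * n ^ r := by
    rw [hr, ← pow_succ', ← pow_add]
    congr 1
    omega
  rw [hNN] at h5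
  have hok' : Core.ok g d n W (ξ.pull p) := K817.Closed.ok_pull p hok
  have hc' : IsCommMonObj (ξ.pull p).X := hok'.comm
  refine ⟨n ^ r, W, p, G, inferInstance, inferInstance, ρ, Fin (2 * g) → Fin (n ^ r * n ^ r), inferInstance,
    fun a => tp (ξ.pull p).X τ a ^ (n ^ r), ?_, h1, h2, h4, ?_, ?_, ?_, ?_, ?_⟩
  · calc Q < n ^ r := hQ
      _ ≤ (n ^ r) ^ 2 := Nat.le_self_pow (by norm_num) _
  · exact fun a => (K515.QPTors.tors_A (ξ.pull p).X g d (n ^ r) τ hok'.ab _ hok'.pol h5 a).1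
  · exact fun a => (K515.QPTors.tors_A (ξ.pull p).X g d (n ^ r) τ hok'.ab _ hok'.pol h5 a).2
  · refine ⟨fun _ => ⟨0, Nat.mul_pos hpos hpos⟩, ?_⟩
    have h7 : tp (ξ.pull p).X τ (fun _ => (⟨0, Nat.mul_pos hpos hpos⟩ : Fin (n ^ r * n ^ r))) = 1 := by
      unfold tp
      rw [List.prod_ofFn]
      exact Finset.prod_eq_one fun i _ => pow_zero _
    refine (congrArg (· ^ n ^ r) h7).trans ((one_pow _).trans ?_)
    exact (Hom.one_def).trans (by
      rw [show toUnit (𝟙_ (Over W.left)) = 𝟙 _ from toUnit_unique _ _, Category.id_comp])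
  · intro i
    obtain ⟨a, ha⟩ := K515.QPTors.tors_C (ξ.pull p).X g (n ^ r) hpos τ h5 (n := n) (q := n ^ (2 * Q + 1))
      (N' := n ^ Q) hNN.symm (by rw [hr, pow_succ']) i
    exact ⟨a, ha.symm.trans (h6 i)⟩
  · intro Ω _ _ w
    refine ⟨?_, fun y hy => K515.QPTors.tors_B (ξ.pull p).X g (n ^ r) hpos hok'.ab τ h5 Ω w y hy⟩
    have h8 : (n : Ω) ≠ 0 := by
      have h9 := (hu.map ((w ≫ p.left).appTop ≫ (Scheme.ΓSpecIso (CommRingCat.of Ω)).hom).hom).ne_zero
      rwa [map_natCast] at h9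
    rw [Nat.cast_pow]
    exact pow_ne_zero _ h8

end K382.Lev
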