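import Groth.Agent.AgPol.K382.LevGal
import Groth.Agent.AgPol.K117.Nodes
import Groth.Agent.AgPol.K438.Level

/-!
# Adding level structure is a Galois covering (`K117.Ag.Node.LevelCover`)
-/

set_option autoImplicit false
universe u

open CategoryTheory CategoryTheory.Limits MonoidalCategory CartesianMonoidalCategory MonObj AlgebraicGeometry

namespace K382.LevCover

open K814.AbBasic K814.ExactOrder K382.LevAlg K382.LevScheme Groth.Agent.Sga3B.BcPts

/-- The number of torsion points of an abelian scheme at a geometric point. -/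
theorem card_geom {S : Scheme.{u}} (A : Over S) [GrpObj A] [IsCommMonObj A] {g : ℕ} (hA : AgPol.IsAbSch A g)
    {Ω : Type u} [Field Ω] [IsAlgClosed Ω] (t : Spec (CommRingCat.of Ω) ⟶ S) {d : ℕ} (hd : (d : Ω) ≠ 0) :
    Nat.card {y : Over.mk t ⟶ A // y ^ d = 1} = d ^ (2 * g) := by
  have hc : IsCommMonObj (Red.bc t A) := inferInstanceAs (IsCommMonObj ((Over.pullback t).obj A))
  rw [← K438.Level.card_torsSet (𝟙 (Spec (CommRingCat.of Ω))) (Red.bc t A) (K438.Level.isAbSch_bc hA t) hd]
  let e₁ : (Over.map t).obj (Over.mk (𝟙 (Spec (CommRingCat.of Ω)))) ≅ Over.mk t :=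
    Over.isoMk (Iso.refl _) (by simp)
  let e : (Over.mk t ⟶ A) ≃* (Over.mk (𝟙 (Spec (CommRingCat.of Ω))) ⟶ Red.bc t A) :=
    (preIso A e₁).trans (bcMulEquiv t _ A)
  refine Nat.card_congr (Equiv.subtypeEquiv e.toEquiv fun x => ?_)
  change x ^ d = 1 ↔ (e x) ^ d = 1
  rw [← map_pow, map_eq_one_iff _ e.injective]

theorem bcEquiv_fst {S S' : Scheme.{u}} (f : S' ⟶ S) {T : Over S'} {X : Over S} (x : (Over.map f).obj T ⟶ X) :
    (bcEquiv f T X x).left ≫ pullback.fst X.hom f = x.left := by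
  simp only [bcEquiv, Adjunction.homEquiv_unit]
  simp only [Over.comp_left, Over.mapPullbackAdj_unit_app, Over.pullback_map_left, Category.assoc, Over.homMk_left]
  refine (congrArg (_ ≫ ·) (pullback.lift_fst _ _ _)).trans ?_
  exact (pullback.lift_fst_assoc _ _ _ _).trans (Category.id_comp _)

section bc

variable {S : Scheme.{u}} {A : Over S} [GrpObj A] [IsCommMonObj A] {W : Over S}

/-- The unit object of the base change, regarded over the base. -/
noncomputable def unitTo (W : Over S) : (Over.map W.hom).obj (𝟙_ (Over W.left)) ⟶ W :=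
  Over.homMk (𝟙 W.left) (by
    refine (Category.id_comp _).trans ?_
    exact (Category.id_comp W.hom).symm)

/-- Points over `W` as sections of the base change. -/
noncomputable def secOf (x : W ⟶ A) : 𝟙_ (Over W.left) ⟶ Red.bc W.hom A :=
  bcMulEquiv W.hom (𝟙_ (Over W.left)) A (unitTo W ≫ x)

theorem secOf_pow (x : W ⟶ A) (q : ℕ) : secOf x ^ q = secOf (x ^ q) := by
  rw [secOf, secOf, ← map_pow, MonObj.comp_pow]

theorem toUnit_secOf {T : Over W.left} (x : W ⟶ A) :
    toUnit T ≫ secOf x = bcMulEquiv W.hom T A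
      ((Over.homMk T.hom rfl : (Over.map W.hom).obj T ⟶ W) ≫ x) := by
  refine (comp_bcEquiv W.hom (toUnit T) (unitTo W ≫ x)).symm.trans ?_
  change bcEquiv W.hom T A _ = bcEquiv W.hom T A _
  congr 1

theorem secOf_toUnit (s : 𝟙_ (Over S) ⟶ A) : secOf (toUnit W ≫ s) =
    Over.homMk (pullback.lift (W.hom ≫ s.left) (𝟙 W.left) (by
      rw [Category.assoc, Over.w s]; exact (Category.comp_id _).trans (Category.id_comp _).symm))
      (pullback.lift_snd _ _ _) := by
  ext1
  apply pullback.hom_ext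
  · refine (bcEquiv_fst W.hom _).trans (Eq.trans ?_ (pullback.lift_fst _ _ _).symm)
    change 𝟙 W.left ≫ (toUnit W).left ≫ s.left = W.hom ≫ s.left
    rw [Category.id_comp]
    congr 1
  · refine (Over.w (secOf (toUnit W ≫ s))).trans (pullback.lift_snd _ _ _).symm

theorem isLevelStr_secOf {g N q n : ℕ} (hN : N = n * q) [NeZero N] (hA : AgPol.IsAbSch A g)
    (hu : IsUnit (N : Γ(S, ⊤))) {σ : Fin (2 * g) → (𝟙_ (Over S) ⟶ A)} (hσ : ∀ i, σ i ^ n = 1)
    {u : Fin (2 * g) → (W ⟶ A)} (h5 : Good N q σ u) :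
    AgPol.IsLevelStr (Red.bc W.hom A) g N (fun i => secOf (u i)) := by
  have hcW : IsCommMonObj (Red.bc W.hom A) := inferInstanceAs (IsCommMonObj ((Over.pullback W.hom).obj A))
  have hone : ∀ i, secOf (u i) ^ N = 1 := fun i => by
    rw [secOf_pow, hN, mul_comm, pow_mul, h5.pow, ← MonObj.comp_pow, hσ, MonObj.comp_one, secOf,
      MonObj.comp_one, map_one]
  refine ⟨hone, fun Ω _ _ t => ?_⟩
  have hcd : Nat.card {y : Over.mk t ⟶ Red.bc W.hom A // y ^ N = 1} = N ^ (2 * g) :=
    card_geom (Red.bc W.hom A) (K438.Level.isAbSch_bc hA W.hom) t (cast_ne_zero hu (t ≫ W.hom))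
  refine ⟨?_, hcd⟩
  refine (gen_iff (x := fun i => toUnit (Over.mk t) ≫ secOf (u i)) (fun i => ?_) hcd).2 fun a ha h => ?_
  · rw [← MonObj.comp_pow, hone, MonObj.comp_one]
  · let θ := bcMulEquiv W.hom (Over.mk t) A
    have h6 : (fun i => toUnit (Over.mk t) ≫ secOf (u i)) = fun i => θ.toMonoidHom
        ((Over.homMk t rfl : Over.mk (t ≫ W.hom) ⟶ W) ≫ u i) := funext fun i => toUnit_secOf (u i)
    rw [h6, ← map_ev] at h
    refine ne_of_good h5 (Over.homMk t rfl : Over.mk (t ≫ W.hom) ⟶ W) a ha ?_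
    exact (map_eq_one_iff _ θ.injective).1 h

end bc

theorem main : K117.Ag.Node.LevelCover.{u} := by
  intro S T _ g d n q hg hn hq x hok hu
  let A : Over T.left := x.X
  have hA : AgPol.IsAbSch A g := hok.ab
  have hc : IsCommMonObj A := hok.comm
  have hs := hA.smooth
  have hp := hA.proper
  have hgc := hA.geomConnected
  have hlev := hok.level
  obtain ⟨W, u, ρ, h1, h2, h3, h4, h5⟩ := exists_cover (A := A) (σ := x.σ) (N := n * q) (q := q) rfl hn hq hu
    hlev.1 (fun Ω _ _ t d hd => card_geom A hA t (by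
      have h := cast_ne_zero hu t
      obtain ⟨c, hc⟩ := hd
      rw [hc, Nat.cast_mul] at h
      exact left_ne_zero_of_mul h)) (fun Ω _ _ t => (hlev.2 Ω t).1)
  have hNZ : NeZero (n * q) := ⟨by positivity⟩
  have hfin : Finite (Gq (2 * g) (n * q) q) := Finite.of_injective (fun φ => φ.1) Subtype.val_injective
  refine ⟨Over.mk (W.hom ≫ T.hom), Over.homMk W.hom rfl, ULift.{u} (Gq (2 * g) (n * q) q), inferInstance,
    inferInstance, ρ, h1, h2, h3, h4, fun i => secOf (u i), ?_, ?_⟩
  · exact isLevelStr_secOf (A := A) (W := W) rfl hA hu hlev.1 h5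
  · intro i
    have h6 : secOf (u i) ^ q = secOf (toUnit W ≫ x.σ i) := by rw [secOf_pow, h5.pow]
    exact h6.trans (secOf_toUnit (W := W) (x.σ i))

end K382.LevCover
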