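import Mathlib.Data.ZMod.Basic
import Mathlib.Data.Nat.ChineseRemainder
import Mathlib.GroupTheory.OrderOfElement
import Mathlib.Algebra.BigOperators.Pi
import Groth.Agent.Etcore.ZModFree

/-!
# Bases of free `ℤ/N`-modules lifting a basis of the `n`-torsion
-/

set_option autoImplicit false

namespace K382.LevAlg

/-- `q = q₁ q₂` with `q₁ ∣ n ^ k` and `q₂` prime to `n`. -/
theorem exists_split (n q : ℕ) (hq : 1 ≤ q) : ∃ q₁ q₂ k : ℕ, q = q₁ * q₂ ∧ q₁ ∣ n ^ k ∧ n.Coprime q₂ := by
  induction q using Nat.strong_induction_on with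
  | _ q ih =>
    by_cases h : n.Coprime q
    · exact ⟨1, q, 0, (one_mul q).symm, one_dvd _, h⟩
    · obtain ⟨p, hp, hpn, hpq⟩ := Nat.Prime.not_coprime_iff_dvd.1 h
      obtain ⟨q', rfl⟩ := hpq
      have hq' : 1 ≤ q' := Nat.pos_of_ne_zero (by rintro rfl; simp at hq)
      obtain ⟨q₁, q₂, k, h1, h2, h3⟩ := ih q' (lt_mul_of_one_lt_left hq' hp.one_lt) hq'
      refine ⟨p * q₁, q₂, k + 1, by rw [h1, mul_assoc], ?_, h3⟩
      rw [pow_succ, mul_comm]
      exact mul_dvd_mul h2 hpn

variable {r : ℕ}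

/-- Torsion in `(ℤ/N)^r`: elements killed by `d` are divisible by `e`, `N = d * e`. -/
theorem exists_div {N d e : ℕ} (hN : N = d * e) (hd : 1 ≤ d) (x : Fin r → ZMod N) (hx : d • x = 0) :
    ∃ y, x = e • y := by
  subst hN
  have h : ∀ a : ZMod (d * e), d • a = 0 → ∃ b : ZMod (d * e), a = e • b := by
    intro a ha
    obtain ⟨m, rfl⟩ := ZMod.intCast_surjective a
    have h1 : (((d : ℤ) * m : ℤ) : ZMod (d * e)) = 0 := by
      rw [← ha]
      push_cast
      rw [nsmul_eq_mul]
    rw [ZMod.intCast_zmod_eq_zero_iff_dvd] at h1 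
    push_cast at h1
    obtain ⟨c, hc⟩ := Int.dvd_of_mul_dvd_mul_left (by exact_mod_cast (by omega : d ≠ 0)) h1
    refine ⟨(c : ZMod (d * e)), ?_⟩
    rw [hc, nsmul_eq_mul]
    push_cast
    rfl
  choose y hy using fun i => h (x i) (congrFun hx i)
  exact ⟨y, funext hy⟩

theorem kill {N : ℕ} (x : Fin r → ZMod N) : N • x = 0 := by
  ext i
  simp

theorem kill_of_dvd {N m : ℕ} (h : N ∣ m) (x : Fin r → ZMod N) : m • x = 0 := by
  obtain ⟨c, rfl⟩ := h
  rw [mul_comm, mul_smul, kill, smul_zero]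

theorem smul_congr {M : Type*} [AddCommGroup M] {n a b : ℕ} (h : a ≡ b [MOD n]) {x : M} (hx : n • x = 0) :
    a • x = b • x := by
  have h1 : ∀ c : ℕ, c • x = (c % n) • x := fun c => by
    conv_lhs => rw [← Nat.mod_add_div c n, add_smul, mul_comm, mul_smul, hx, smul_zero, add_zero]
  rw [h1 a, h1 b, h]

theorem mem_of_single {N m : ℕ} [NeZero N] (K : AddSubgroup (Fin r → ZMod N))
    (h : ∀ i, m • (Pi.single i 1 : Fin r → ZMod N) ∈ K) (z : Fin r → ZMod N) : m • z ∈ K := by
  have h1 : z = ∑ i, (z i).val • (Pi.single i 1 : Fin r → ZMod N) := by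
    ext j
    rw [Finset.sum_apply, Finset.sum_eq_single j]
    · rw [Pi.smul_apply, Pi.single_eq_same, nsmul_eq_mul, mul_one, ZMod.natCast_zmod_val]
    · intro i _ hi
      rw [Pi.smul_apply, Pi.single_eq_of_ne hi.symm, smul_zero]
    · intro h
      exact absurd (Finset.mem_univ j) h
  rw [h1, Finset.smul_sum]
  refine K.sum_mem fun i _ => ?_
  rw [smul_comm]
  exact K.nsmul_mem (h i) _

/-- A generating family of the `n`-torsion of `(ℤ/nq)^r` lifts along `q` to a generating family. -/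
theorem lift_gen {N n q : ℕ} (hN : N = n * q) (hn : 1 ≤ n) (hq : 1 ≤ q) (σ : Fin r → (Fin r → ZMod N))
    (h1 : ∀ i, n • σ i = 0) (h2 : ∀ x, n • x = 0 → x ∈ AddSubgroup.closure (Set.range σ)) :
    ∃ τ : Fin r → (Fin r → ZMod N), (∀ i, q • τ i = σ i) ∧ AddSubgroup.closure (Set.range τ) = ⊤ := by
  have hN0 : NeZero N := ⟨by rw [hN]; positivity⟩
  obtain ⟨q₁, q₂, k, hq12, hk, hcop⟩ := exists_split n q hq
  have hq1 : 1 ≤ q₁ := Nat.pos_of_ne_zero (by rintro rfl; simp at hq12; omega)
  have hq2 : 1 ≤ q₂ := Nat.pos_of_ne_zero (by rintro rfl; simp at hq12; omega)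
  have hcop' : (n * q₁).Coprime q₂ :=
    Nat.Coprime.mul_left hcop (Nat.Coprime.coprime_dvd_left hk (hcop.pow_left k))
  have hNd : N = (n * q₁) * q₂ := by rw [hN, hq12, mul_assoc]
  choose τ' hτ' using fun i => exists_div hN hn (σ i) (h1 i)
  obtain ⟨u, hu1, hu2⟩ := Nat.chineseRemainder hcop' 1 0
  have hu2' : q₂ ∣ u := (Nat.modEq_zero_iff_dvd).1 hu2
  have huN : ∀ x : Fin r → ZMod N, (u * (n * q₁)) • x = 0 := fun x => by
    refine kill_of_dvd ?_ x
    rw [hNd, mul_comm]
    exact mul_dvd_mul hu2' dvd_rfl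
  let e : Fin r → (Fin r → ZMod N) := fun i => Pi.single i 1
  -- `u` is idempotent
  have huu : ∀ x : Fin r → ZMod N, u • u • x = u • x := fun x => by
    refine (smul_congr (n := n * q₁) hu1 ?_).trans (one_smul ℕ (u • x))
    rw [smul_smul, mul_comm]
    exact huN x
  have hqτ : ∀ i, q • (u • τ' i) = σ i := fun i => by
    rw [smul_comm, ← hτ']
    exact (smul_congr (hu1.of_mul_right q₁) (h1 i)).trans (one_smul ℕ _)
  refine ⟨fun i => u • τ' i + (n * q₁) • e i, fun i => ?_, ?_⟩
  · rw [smul_add, hqτ, smul_smul q (n * q₁), kill_of_dvd (m := q * (n * q₁)) ⟨q₁, by rw [hN]; ring⟩,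
      add_zero]
  · set τ : Fin r → (Fin r → ZMod N) := fun i => u • τ' i + (n * q₁) • e i with hτ
    set K := AddSubgroup.closure (Set.range τ) with hK
    have hτK : ∀ i, τ i ∈ K := fun i => AddSubgroup.subset_closure ⟨i, rfl⟩
    have h3 : ∀ i, u • τ' i ∈ K := fun i => by
      have h4 : u • τ i = u • τ' i := by
        rw [hτ]
        simp only
        rw [smul_add, huu, smul_smul u (n * q₁), huN, add_zero]
      rw [← h4]
      exact K.nsmul_mem (hτK i) u
    have h4 : ∀ i, (n * q₁) • e i ∈ K := fun i => by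
      have h5 : (n * q₁) • e i = τ i - u • τ' i := by
        rw [hτ]
        simp only
        abel
      rw [h5]
      exact K.sub_mem (hτK i) (h3 i)
    have h5 : ∀ z, (n * q₁) • z ∈ K := mem_of_single K h4
    -- the subgroup generated by the `u • τ' i`
    have h6 : ∀ y ∈ AddSubgroup.closure (Set.range σ), ∃ x ∈ K, y = q • x ∧ (n * q₁) • x = 0 := by
      intro y hy
      induction hy using AddSubgroup.closure_induction with
      | mem y hy =>
        obtain ⟨i, rfl⟩ := hy
        exact ⟨u • τ' i, h3 i, (hqτ i).symm, by rw [smul_smul, mul_comm]; exact huN _⟩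
      | zero => exact ⟨0, K.zero_mem, (smul_zero _).symm, smul_zero _⟩
      | add a b _ _ ha hb =>
        obtain ⟨x, hx, rfl, hx'⟩ := ha
        obtain ⟨x', hx1, rfl, hx1'⟩ := hb
        exact ⟨x + x', K.add_mem hx hx1, (smul_add _ _ _).symm, by rw [smul_add, hx', hx1', add_zero]⟩
      | neg a _ ha =>
        obtain ⟨x, hx, rfl, hx'⟩ := ha
        exact ⟨-x, K.neg_mem hx, (smul_neg _ _).symm, by rw [smul_neg, hx', neg_zero]⟩
    -- `M[n q₁] ⊆ K + n^j M[n q₁]`
    have h7 : ∀ j : ℕ, ∀ x : Fin r → ZMod N, (n * q₁) • x = 0 →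
        ∃ z : Fin r → ZMod N, (n * q₁) • z = 0 ∧ x - n ^ j • z ∈ K := by
      intro j
      induction j with
      | zero => exact fun x hx => ⟨x, hx, by rw [pow_zero, one_smul, sub_self]; exact K.zero_mem⟩
      | succ j ih =>
        intro x hx
        obtain ⟨z, hz, hz'⟩ := ih x hx
        obtain ⟨w, hw, hw1, hw2⟩ := h6 (q • z) (h2 _ (by rw [smul_smul, ← hN]; exact kill z))
        have h8 : q₁ • (z - w) = 0 := by
          have h9 : (n * q₁) • (z - w) = 0 := by rw [smul_sub, hz, hw2, sub_zero]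
          have h10 : (q₁ * q₂) • (z - w) = 0 := by rw [← hq12, smul_sub, ← hw1, sub_self]
          have h11 : n • (q₁ • (z - w)) = 0 := by rw [smul_smul]; exact h9
          have h12 : q₂ • (q₁ • (z - w)) = 0 := by rw [smul_smul, mul_comm]; exact h10
          have h13 := addOrderOf_dvd_of_nsmul_eq_zero h11
          have h14 := addOrderOf_dvd_of_nsmul_eq_zero h12
          have h15 : addOrderOf (q₁ • (z - w)) = 1 := Nat.eq_one_of_dvd_coprimes hcop h13 h14
          exact AddMonoid.addOrderOf_eq_one_iff.1 h15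
        obtain ⟨v, hv⟩ := exists_div (d := q₁) (e := n * q₂) (by rw [hNd]; ring) hq1 (z - w) h8
        refine ⟨q₂ • v, ?_, ?_⟩
        · rw [smul_smul, ← hNd]
          exact kill v
        · have h16 : z = w + n • q₂ • v := by
            rw [smul_smul, ← hv]
            abel
          have h17 : x - n ^ (j + 1) • q₂ • v = (x - n ^ j • z) + n ^ j • w := by
            conv_rhs => rw [h16, smul_add]
            rw [pow_succ, mul_smul]
            abel
          rw [h17]
          exact K.add_mem hz' (K.nsmul_mem hw _)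
    rw [eq_top_iff]
    intro x _
    obtain ⟨z, hz, hz'⟩ := h7 (k + 1) (u • x) (by rw [smul_smul, mul_comm]; exact huN x)
    have h8 : n ^ (k + 1) • z = 0 := by
      obtain ⟨c, hc⟩ := hk
      rw [pow_succ, hc, show q₁ * c * n = c * (n * q₁) by ring, mul_smul, hz, smul_zero]
    rw [h8, sub_zero] at hz'
    -- `(1 - u) x` is killed by `q₂`
    have h9 : q₂ • (x - u • x) = 0 := by
      rw [smul_sub, sub_eq_zero, smul_smul, mul_comm, mul_smul]
      refine Eq.symm ((smul_congr (n := n * q₁) hu1 ?_).trans (one_smul ℕ _))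
      rw [smul_smul, ← hNd]
      exact kill x
    obtain ⟨v, hv⟩ := exists_div (d := q₂) (e := n * q₁) (by rw [hNd]; ring) hq2 _ h9
    have h10 : x = (n * q₁) • v + u • x := by
      rw [← hv]
      abel
    rw [h10]
    exact K.add_mem (h5 v) hz'

end K382.LevAlg
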