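import Groth.Agent.AgPol.K382.LevAlg

/-!
# Families of `N`-torsion elements as homomorphisms from `(ℤ/N)^r`
-/

set_option autoImplicit false

namespace K382.LevAlg

variable {H : Type*} [CommGroup H] {r N : ℕ}

/-- The combination `∏ x i ^ a i`. -/
def ev (x : Fin r → H) (a : Fin r → ZMod N) : H := ∏ i, x i ^ (a i).val

theorem map_ev {H' : Type*} [CommGroup H'] (f : H →* H') (x : Fin r → H) (a : Fin r → ZMod N) :
    f (ev x a) = ev (fun i => f (x i)) a := by
  simp [ev, map_prod, map_pow]

theorem ev_zero (x : Fin r → H) : ev x (0 : Fin r → ZMod N) = 1 := by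
  simp [ev]

theorem ev_add [NeZero N] {x : Fin r → H} (hx : ∀ i, x i ^ N = 1) (a b : Fin r → ZMod N) :
    ev x (a + b) = ev x a * ev x b := by
  rw [ev, ev, ev, ← Finset.prod_mul_distrib]
  refine Finset.prod_congr rfl fun i _ => ?_
  rw [← pow_add, Pi.add_apply, ZMod.val_add, ← pow_eq_pow_mod _ (hx i)]

theorem ev_single {x : Fin r → H} (hx : ∀ i, x i ^ N = 1) (i : Fin r) :
    ev x (Pi.single i 1 : Fin r → ZMod N) = x i := by
  rw [ev, Finset.prod_eq_single i]
  · rw [Pi.single_eq_same, ZMod.val_one_eq_one_mod, ← pow_eq_pow_mod _ (hx i), pow_one]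
  · intro j _ hj
    rw [Pi.single_eq_of_ne hj, ZMod.val_zero, pow_zero]
  · intro h
    exact absurd (Finset.mem_univ i) h

theorem ev_mem (x : Fin r → H) (a : Fin r → ZMod N) : ev x a ∈ Subgroup.closure (Set.range x) :=
  Subgroup.prod_mem _ fun i _ => Subgroup.pow_mem _ (Subgroup.subset_closure (Set.mem_range_self i)) _

theorem ev_pow {x : Fin r → H} (hx : ∀ i, x i ^ N = 1) (a : Fin r → ZMod N) : ev x a ^ N = 1 := by
  rw [ev, ← Finset.prod_pow]
  refine Finset.prod_eq_one fun i _ => ?_
  rw [← pow_mul, mul_comm, pow_mul, hx, one_pow]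

/-- The homomorphism attached to a family of `N`-torsion elements. -/
def evHom [NeZero N] (x : Fin r → H) (hx : ∀ i, x i ^ N = 1) : Multiplicative (Fin r → ZMod N) →* H where
  toFun a := ev x a.toAdd
  map_one' := ev_zero x
  map_mul' a b := ev_add hx a.toAdd b.toAdd

theorem evHom_apply [NeZero N] (x : Fin r → H) (hx : ∀ i, x i ^ N = 1) (a : Fin r → ZMod N) :
    evHom x hx (Multiplicative.ofAdd a) = ev x a := rfl

theorem ev_nsmul [NeZero N] {x : Fin r → H} (hx : ∀ i, x i ^ N = 1) (m : ℕ) (a : Fin r → ZMod N) :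
    ev x (m • a) = ev x a ^ m := (evHom x hx).map_pow (Multiplicative.ofAdd a) m

theorem hom_ext [NeZero N] {f g : Multiplicative (Fin r → ZMod N) →* H}
    (h : ∀ i, f (Multiplicative.ofAdd (Pi.single i 1)) = g (Multiplicative.ofAdd (Pi.single i 1)))
    (a : Fin r → ZMod N) : f (Multiplicative.ofAdd a) = g (Multiplicative.ofAdd a) := by
  let K : AddSubgroup (Fin r → ZMod N) :=
    { carrier := {a | f (Multiplicative.ofAdd a) = g (Multiplicative.ofAdd a)}
      zero_mem' := by
        change f 1 = g 1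
        rw [map_one, map_one]
      add_mem' := fun {a b} ha hb => by
        change f (Multiplicative.ofAdd a * Multiplicative.ofAdd b) = g (Multiplicative.ofAdd a * Multiplicative.ofAdd b)
        rw [map_mul, map_mul, show f _ = g _ from ha, show f _ = g _ from hb]
      neg_mem' := fun {a} ha => by
        change f (Multiplicative.ofAdd a)⁻¹ = g (Multiplicative.ofAdd a)⁻¹
        rw [map_inv, map_inv, show f _ = g _ from ha] }
  have h1 := mem_of_single (m := 1) K (fun i => by rw [one_smul]; exact h i) a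
  rw [one_smul] at h1
  exact h1

/-- Precomposition of the homomorphism attached to a family with an automorphism. -/
theorem ev_act [NeZero N] {x : Fin r → H} (hx : ∀ i, x i ^ N = 1) (φ : (Fin r → ZMod N) →+ (Fin r → ZMod N))
    (a : Fin r → ZMod N) : ev (fun i => ev x (φ (Pi.single i 1))) a = ev x (φ a) := by
  have hy : ∀ i, (fun i => ev x (φ (Pi.single i 1))) i ^ N = 1 := fun i => ev_pow hx _
  refine hom_ext (f := evHom _ hy) (g := (evHom x hx).comp (AddMonoidHom.toMultiplicative φ)) (fun i => ?_) a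
  exact ev_single hy i

section card

variable [NeZero N] {x : Fin r → H} (hx : ∀ i, x i ^ N = 1) (hcard : Nat.card {y : H // y ^ N = 1} = N ^ r)

/-- The map to the torsion. -/
def evT {x : Fin r → H} (hx : ∀ i, x i ^ N = 1) (a : Fin r → ZMod N) : {y : H // y ^ N = 1} := ⟨ev x a, ev_pow hx a⟩

include hcard in
theorem evT_bijective_iff : Function.Bijective (evT hx) ↔ Function.Injective (evT hx) := by
  have h1 : Nat.card (Fin r → ZMod N) = Nat.card {y : H // y ^ N = 1} := by
    rw [hcard, Nat.card_fun, Nat.card_zmod, Nat.card_fin]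
  have h2 : Finite {y : H // y ^ N = 1} := Nat.finite_of_card_ne_zero (by
    rw [hcard]
    exact pow_ne_zero _ (NeZero.ne N))
  refine ⟨fun h => h.1, fun h => ?_⟩
  exact (Nat.bijective_iff_injective_and_card _).2 ⟨h, h1⟩

include hcard in
theorem evT_bijective_iff' : Function.Bijective (evT hx) ↔ Function.Surjective (evT hx) := by
  have h1 : Nat.card (Fin r → ZMod N) = Nat.card {y : H // y ^ N = 1} := by
    rw [hcard, Nat.card_fun, Nat.card_zmod, Nat.card_fin]
  refine ⟨fun h => h.2, fun h => ?_⟩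
  exact (Nat.bijective_iff_surjective_and_card _).2 ⟨h, h1⟩

theorem injective_iff : Function.Injective (evT hx) ↔ ∀ a : Fin r → ZMod N, a ≠ 0 → ev x a ≠ 1 := by
  have h1 : Function.Injective (evT hx) ↔ Function.Injective (evHom x hx) :=
    ⟨fun h a b hab => Multiplicative.toAdd.injective (h (Subtype.ext hab)), fun h a b hab =>
      Multiplicative.ofAdd.injective (h (congrArg Subtype.val hab))⟩
  rw [h1, injective_iff_map_eq_one]
  constructor
  · intro h a ha ha'
    exact ha (Multiplicative.ofAdd.injective (h (Multiplicative.ofAdd a) ha'))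
  · intro h a ha
    by_contra hne
    exact h a.toAdd (fun h0 => hne (Multiplicative.toAdd.injective h0)) ha

theorem surjective_iff : Function.Surjective (evT hx) ↔
    (Subgroup.closure (Set.range x) : Set H) = {y | y ^ N = 1} := by
  have h0 : (Subgroup.closure (Set.range x) : Set H) ⊆ {y | y ^ N = 1} := by
    intro y hy
    have h1 : Subgroup.closure (Set.range x) ≤ (powMonoidHom N : H →* H).ker := by
      rw [Subgroup.closure_le]
      rintro _ ⟨i, rfl⟩
      exact hx i
    exact h1 hy
  constructor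
  · intro h
    refine h0.antisymm fun y hy => ?_
    obtain ⟨a, ha⟩ := h ⟨y, hy⟩
    have h2 : ev x a = y := congrArg Subtype.val ha
    rw [← h2]
    exact ev_mem x a
  · rintro h ⟨y, hy⟩
    have h1 : y ∈ (Subgroup.closure (Set.range x) : Set H) := by
      rw [h]
      exact hy
    have h2 : Subgroup.closure (Set.range x) ≤ (evHom x hx).range := by
      rw [Subgroup.closure_le]
      rintro _ ⟨i, rfl⟩
      exact ⟨Multiplicative.ofAdd (Pi.single i 1), ev_single hx i⟩
    obtain ⟨a, ha⟩ := h2 h1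
    exact ⟨a.toAdd, Subtype.ext ha⟩

include hx hcard in
/-- A family of `N`-torsion elements is a basis iff it generates. -/
theorem gen_iff : (Subgroup.closure (Set.range x) : Set H) = {y | y ^ N = 1} ↔
    ∀ a : Fin r → ZMod N, a ≠ 0 → ev x a ≠ 1 := by
  rw [← surjective_iff hx, ← injective_iff hx, ← evT_bijective_iff hx hcard, ← evT_bijective_iff' hx hcard]

include hx hcard in
/-- Two bases with the same `q`-th powers differ by an automorphism. -/
theorem exists_act {x' : Fin r → H} (hx' : ∀ i, x' i ^ N = 1) (h : ∀ a : Fin r → ZMod N, a ≠ 0 → ev x a ≠ 1)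
    (h' : ∀ a : Fin r → ZMod N, a ≠ 0 → ev x' a ≠ 1) (q : ℕ) (hq : ∀ i, x i ^ q = x' i ^ q) :
    ∃ φ : AddAut (Fin r → ZMod N), (∀ a, q • φ a = q • a) ∧ ∀ a, ev x' a = ev x (φ a) := by
  have hb := (evT_bijective_iff hx hcard).2 ((injective_iff hx).2 h)
  have hb' := (evT_bijective_iff hx' hcard).2 ((injective_iff hx').2 h')
  let e := Equiv.ofBijective _ hb
  let e' := Equiv.ofBijective _ hb'
  have he : ∀ a, ev x (e.symm (e' a)) = ev x' a := fun a => congrArg Subtype.val (e.apply_symm_apply (e' a))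
  have hinj : ∀ a b, ev x a = ev x b → a = b := fun a b hab => hb.1 (Subtype.ext hab)
  refine ⟨{ e'.trans e.symm with map_add' := fun a b => ?_ }, fun a => ?_, fun a => (he a).symm⟩
  · apply hinj
    change ev x (e.symm (e' (a + b))) = ev x (e.symm (e' a) + e.symm (e' b))
    rw [he, ev_add hx, he, he, ev_add hx']
  · apply hinj
    change ev x (q • e.symm (e' a)) = ev x (q • a)
    rw [ev_nsmul hx, ev_nsmul hx, he]
    rw [ev, ev, ← Finset.prod_pow, ← Finset.prod_pow]
    refine Finset.prod_congr rfl fun i _ => ?_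
    rw [← pow_mul, mul_comm, pow_mul, ← hq, ← pow_mul, mul_comm, pow_mul]

end card

/-- Existence of a basis of the `N`-torsion lifting a basis of the `n`-torsion. -/
theorem exists_basis {n q : ℕ} (hN : N = n * q) (hn : 1 ≤ n) (hq : 1 ≤ q)
    (hcard : ∀ d, d ∣ N → Nat.card {y : H // y ^ d = 1} = d ^ r) (σ : Fin r → H)
    (h1 : ∀ i, σ i ^ n = 1) (h2 : (Subgroup.closure (Set.range σ) : Set H) = {y | y ^ n = 1}) :
    ∃ τ : Fin r → H, (∀ i, τ i ^ q = σ i) ∧ (Subgroup.closure (Set.range τ) : Set H) = {y | y ^ N = 1} := by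
  have hN0 : N ≠ 0 := by rw [hN]; positivity
  have hNZ : NeZero N := ⟨hN0⟩
  let K : Subgroup H := (powMonoidHom N : H →* H).ker
  have hK : ∀ y, y ∈ K ↔ y ^ N = 1 := fun y => Iff.rfl
  have hfin : Finite (Additive K) := by
    have h3 : Nat.card K = N ^ r := hcard N dvd_rfl
    exact Nat.finite_of_card_ne_zero (by
      change Nat.card K ≠ 0
      rw [h3]
      exact pow_ne_zero _ hN0)
  have hnN : n ∣ N := ⟨q, hN⟩
  obtain ⟨e⟩ := Groth.Agent.Etcore.ZModFree.nonempty_equiv_of_card r N hN0 (Additive K)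
    (fun m => by
      apply Additive.toMul.injective
      apply Subtype.ext
      exact m.toMul.2) (fun d hd => by
      rw [← hcard d hd]
      refine Nat.card_congr ⟨fun m => ⟨m.1.toMul.1, congrArg (fun z : Additive K => z.toMul.1) m.2⟩,
        fun y => ⟨Additive.ofMul ⟨y.1, ?_⟩, ?_⟩, fun m => rfl, fun y => rfl⟩
      · obtain ⟨c, hc⟩ := hd
        rw [hK, hc, pow_mul, y.2, one_pow]
      · apply Additive.toMul.injective
        apply Subtype.ext
        exact y.2)
  have hσK : ∀ i, σ i ∈ K := fun i => by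
    rw [hK, hN, pow_mul, h1, one_pow]
  obtain ⟨τ, hτ, hτ'⟩ := lift_gen hN hn hq (fun i => e (Additive.ofMul ⟨σ i, hσK i⟩)) (fun i => by
      rw [← map_nsmul, ← map_zero e]
      congr 1
      apply Additive.toMul.injective
      apply Subtype.ext
      exact h1 i) (fun x hx => by
      have h3 : (e.symm x).toMul.1 ∈ (Subgroup.closure (Set.range σ) : Set H) := by
        rw [h2]
        have h4 : n • e.symm x = 0 := by rw [← map_nsmul, hx, map_zero]
        exact congrArg (fun z : Additive K => z.toMul.1) h4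
      let L : Subgroup H :=
        { carrier := {y | ∃ hy : y ∈ K, e (Additive.ofMul ⟨y, hy⟩) ∈ AddSubgroup.closure
            (Set.range fun i => e (Additive.ofMul ⟨σ i, hσK i⟩))}
          one_mem' := ⟨K.one_mem, by
            have : (Additive.ofMul (⟨1, K.one_mem⟩ : K)) = 0 := rfl
            rw [this, map_zero]
            exact AddSubgroup.zero_mem _⟩
          mul_mem' := fun {a b} ⟨ha, ha'⟩ ⟨hb, hb'⟩ => ⟨K.mul_mem ha hb, by
            have : (Additive.ofMul (⟨a * b, K.mul_mem ha hb⟩ : K)) =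
              Additive.ofMul ⟨a, ha⟩ + Additive.ofMul ⟨b, hb⟩ := rfl
            rw [this, map_add]
            exact AddSubgroup.add_mem _ ha' hb'⟩
          inv_mem' := fun {a} ⟨ha, ha'⟩ => ⟨K.inv_mem ha, by
            have : (Additive.ofMul (⟨a⁻¹, K.inv_mem ha⟩ : K)) = -Additive.ofMul ⟨a, ha⟩ := rfl
            rw [this, map_neg]
            exact AddSubgroup.neg_mem _ ha'⟩ }
      have h4 : Subgroup.closure (Set.range σ) ≤ L := by
        rw [Subgroup.closure_le]
        rintro _ ⟨i, rfl⟩
        exact ⟨hσK i, AddSubgroup.subset_closure ⟨i, rfl⟩⟩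
      obtain ⟨h5, h6⟩ := h4 h3
      have h7 : (Additive.ofMul (⟨(e.symm x).toMul.1, h5⟩ : K)) = e.symm x := rfl
      rw [h7, AddEquiv.apply_symm_apply] at h6
      exact h6)
  refine ⟨fun i => (e.symm (τ i)).toMul.1, fun i => ?_, ?_⟩
  · have h3 : q • e.symm (τ i) = Additive.ofMul ⟨σ i, hσK i⟩ := by
      rw [← map_nsmul, hτ, AddEquiv.symm_apply_apply]
    exact congrArg (fun z : Additive K => z.toMul.1) h3
  · have h0 : ∀ i, (fun i => (e.symm (τ i)).toMul.1) i ^ N = 1 := fun i => (e.symm (τ i)).toMul.2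
    refine (surjective_iff h0).1 ?_
    rintro ⟨y, hy⟩
    let L : AddSubgroup (Fin r → ZMod N) :=
      { carrier := {v | ∃ a : Fin r → ZMod N, ev (fun i => (e.symm (τ i)).toMul.1) a = (e.symm v).toMul.1}
        zero_mem' := ⟨0, by rw [ev_zero, map_zero]; rfl⟩
        add_mem' := by
          rintro v w ⟨a, ha⟩ ⟨b, hb⟩
          exact ⟨a + b, by rw [ev_add h0, ha, hb, map_add]; rfl⟩
        neg_mem' := by
          rintro v ⟨a, ha⟩
          refine ⟨-a, ?_⟩
          have h3 : ev (fun i => (e.symm (τ i)).toMul.1) (-a) * ev (fun i => (e.symm (τ i)).toMul.1) a = 1 := by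
            rw [← ev_add h0, neg_add_cancel, ev_zero]
          rw [eq_inv_of_mul_eq_one_left h3, ha, map_neg]
          rfl }
    have h3 : (⊤ : AddSubgroup (Fin r → ZMod N)) ≤ L := by
      rw [← hτ', AddSubgroup.closure_le]
      rintro _ ⟨i, rfl⟩
      exact ⟨Pi.single i 1, ev_single h0 i⟩
    obtain ⟨a, ha⟩ := h3 (AddSubgroup.mem_top (e (Additive.ofMul ⟨y, hy⟩)))
    refine ⟨a, Subtype.ext ?_⟩
    rw [AddEquiv.symm_apply_apply] at ha
    exact ha

end K382.LevAlg
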