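import Groth.Agent.AgPol.K382.LevScheme
import Groth.Agent.Sga3B.BcPts

/-!
# The Galois covering of full level structures
-/

set_option autoImplicit false
universe u

open CategoryTheory CategoryTheory.Limits MonoidalCategory CartesianMonoidalCategory MonObj AlgebraicGeometry

namespace K382.LevCover

open K814.AbBasic K814.ExactOrder K382.LevAlg K382.LevScheme

/-- An invertible integer is non-zero at field valued points. -/
theorem cast_ne_zero {S : Scheme.{u}} {N : ℕ} (hN : IsUnit (N : Γ(S, ⊤))) {Ω : Type u} [Field Ω]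
    (t : Spec (CommRingCat.of Ω) ⟶ S) : (N : Ω) ≠ 0 := by
  have h := hN.map ((Scheme.ΓSpecIso (CommRingCat.of Ω)).hom.hom.comp t.appTop.hom)
  rw [map_natCast] at h
  exact h.ne_zero

/-- Precomposition with an isomorphism. -/
def preIso {S : Scheme.{u}} (A : Over S) [GrpObj A] {X Y : Over S} (e : X ≅ Y) : (Y ⟶ A) ≃* (X ⟶ A) where
  toFun x := e.hom ≫ x
  invFun x := e.inv ≫ x
  left_inv x := Iso.inv_hom_id_assoc e x
  right_inv x := Iso.hom_inv_id_assoc e x
  map_mul' _ _ := MonObj.comp_mul _ _ _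

/-- Geometric points over a geometric point are epimorphisms. -/
theorem epi_mk {S : Scheme.{u}} {Ω Ω' : Type u} [Field Ω] [Field Ω'] (t : Spec (CommRingCat.of Ω) ⟶ S)
    (t' : Spec (CommRingCat.of Ω') ⟶ Spec (CommRingCat.of Ω)) :
    Epi (Over.homMk t' rfl : Over.mk (t' ≫ t) ⟶ Over.mk t) := by
  have h : Epi t' := by
    have : Surjective t' := ⟨fun x => ⟨IsLocalRing.closedPoint Ω', Subsingleton.elim _ _⟩⟩
    have : Flat t' := inferInstance
    infer_instance
  exact (Over.forget _).epi_of_epi_map (show Epi t' from h)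

section

variable {S : Scheme.{u}} {A : Over S} [GrpObj A] [IsCommMonObj A] {r N q : ℕ}
  {σ : Fin r → (𝟙_ (Over S) ⟶ A)}

/-- Independence at geometric points, in terms of morphisms of `S`-schemes. -/
theorem ne_of_good {T : Over S} {x : Fin r → (T ⟶ A)} (h : Good N q σ x) {Ω : Type u} [Field Ω] [IsAlgClosed Ω]
    {t : Spec (CommRingCat.of Ω) ⟶ S} (f : Over.mk t ⟶ T) (a : Fin r → ZMod N) (ha : a ≠ 0) :
    ev (fun i => f ≫ x i) a ≠ 1 := by
  intro h1
  rw [← comp_ev] at h1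
  have h2 := h.ne Ω f.left a ha
  apply h2
  let k : Over.mk (f.left ≫ T.hom) ⟶ Over.mk t := Over.homMk (𝟙 _) (by
    refine (Category.id_comp _).trans ?_
    exact (Over.w f).symm)
  have h3 : (Over.homMk f.left rfl : Over.mk (f.left ≫ T.hom) ⟶ T) = k ≫ f := by
    ext1
    exact (Category.id_comp _).symm
  refine (congrArg (· ≫ ev x a) h3).trans ((Category.assoc k _ _).trans ?_)
  exact (congrArg (k ≫ ·) h1).trans (MonObj.comp_one k)

/-- A good family over the spectrum of an algebraically closed field. -/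
theorem good_mk {Ω : Type u} [Field Ω] {t : Spec (CommRingCat.of Ω) ⟶ S}
    {x : Fin r → (Over.mk t ⟶ A)} (h1 : ∀ i, x i ^ q = toUnit _ ≫ σ i)
    (h2 : ∀ a : Fin r → ZMod N, a ≠ 0 → ev x a ≠ 1) : Good N q σ x where
  pow := h1
  ne Ω' _ _ t' a ha h3 := by
    have := epi_mk t t'
    refine h2 a ha ?_
    rw [← cancel_epi (Over.homMk t' rfl : Over.mk (t' ≫ t) ⟶ Over.mk t), MonObj.comp_one]
    exact h3

/-- The action of automorphisms of `(ℤ/N)^r` on good families. -/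
theorem good_act [NeZero N] {T : Over S} {x : Fin r → (T ⟶ A)} (hx : ∀ i, x i ^ N = 1) (h : Good N q σ x)
    (φ : AddAut (Fin r → ZMod N)) (hφ : ∀ a, q • φ a = q • a) :
    Good N q σ (fun i => ev x (φ (Pi.single i 1))) where
  pow i := by
    rw [← ev_nsmul hx, hφ, ev_nsmul hx, ev_single hx, h.pow]
  ne Ω _ _ t a ha := by
    have h5 : ev (fun i => ev x (φ (Pi.single i 1))) a = ev x (φ a) := ev_act hx φ.toAddMonoidHom a
    rw [h5]
    refine h.ne Ω t (φ a) ?_
    exact fun h0 => ha (φ.map_eq_zero_iff.1 h0)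

theorem ev_act' [NeZero N] {H : Type*} [CommGroup H] {x : Fin r → H} (hx : ∀ i, x i ^ N = 1)
    (φ : AddAut (Fin r → ZMod N)) (a : Fin r → ZMod N) :
    ev (fun i => ev x (φ (Pi.single i 1))) a = ev x (φ a) := ev_act hx φ.toAddMonoidHom a

variable (r N q) in
/-- The automorphisms of `(ℤ/N)^r` which are the identity after multiplication by `q`. -/
def Gq : Subgroup (Equiv.Perm (Fin r → ZMod N)) where
  carrier := {φ | (∀ a b, φ (a + b) = φ a + φ b) ∧ ∀ a, q • φ a = q • a}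
  one_mem' := ⟨fun _ _ => rfl, fun _ => rfl⟩
  mul_mem' := fun {φ ψ} hφ hψ => ⟨fun a b => (congrArg φ (hψ.1 a b)).trans (hφ.1 _ _),
    fun a => (hφ.2 (ψ a)).trans (hψ.2 a)⟩
  inv_mem' := fun {φ} hφ => ⟨fun a b => φ.injective (by
    have h : ∀ c, φ (φ⁻¹ c) = c := φ.apply_symm_apply
    rw [hφ.1, h, h, h]), fun a => by
    have h := hφ.2 (φ⁻¹ a)
    have h' : φ (φ⁻¹ a) = a := φ.apply_symm_apply a
    rw [h'] at h
    exact h.symm⟩

/-- An element of `Gq` as an additive automorphism. -/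
def aut (φ : Gq r N q) : AddAut (Fin r → ZMod N) := { φ.1 with map_add' := φ.2.1 }

/-- The Galois covering of full level structures. -/
theorem exists_cover [Smooth A.hom] [IsProper A.hom] [GeometricallyConnected A.hom] {n : ℕ} (hN : N = n * q)
    (hn : 1 ≤ n) (hq : 1 ≤ q) (hu : IsUnit (N : Γ(S, ⊤))) (hσ : ∀ i, σ i ^ n = 1)
    (hcard : ∀ (Ω : Type u) [Field Ω] [IsAlgClosed Ω] (t : Spec (CommRingCat.of Ω) ⟶ S) (d : ℕ), d ∣ N →
      Nat.card {y : Over.mk t ⟶ A // y ^ d = 1} = d ^ r)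
    (hgen : ∀ (Ω : Type u) [Field Ω] [IsAlgClosed Ω] (t : Spec (CommRingCat.of Ω) ⟶ S),
      (Subgroup.closure (Set.range fun i => toUnit (Over.mk t) ≫ σ i) : Set (Over.mk t ⟶ A)) = {y | y ^ n = 1}) :
    ∃ (W : Over S) (x : Fin r → (W ⟶ A)) (ρ : ULift.{u} (Gq r N q) →* Aut W.left), IsFinite W.hom ∧
      Etale W.hom ∧ Surjective W.hom ∧ SGA1.IsQuot ρ W.hom ∧ Good N q σ x := by
  have hNZ : NeZero N := ⟨by rw [hN]; positivity⟩
  obtain ⟨W, x, h1, h2, h3, h4⟩ := exists_univ hN hn hq hu σ hσ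
  have hpowN : ∀ {T : Over S} (y : Fin r → (T ⟶ A)), (∀ i, y i ^ q = toUnit T ≫ σ i) → ∀ i, y i ^ N = 1 := by
    intro T y hy i
    rw [hN, mul_comm, pow_mul, hy, ← MonObj.comp_pow, hσ, MonObj.comp_one]
  have hx := hpowN x h3.pow
  -- the action
  choose F hF hFu using fun φ : Gq r N q => h4 W _ (good_act hx h3 (aut φ) φ.2.2)
  have hF' : ∀ (φ : Gq r N q) (a : Fin r → ZMod N), F φ ≫ ev x a = ev x (φ.1 a) := fun φ a => by
    refine (comp_ev _ _ _).trans (Eq.trans ?_ (ev_act' hx (aut φ) a))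
    congr 1
    exact funext fun i => hF φ i
  have hx_ext : ∀ {T : Over S} (f g : T ⟶ W), (∀ i, f ≫ x i = g ≫ x i) → f = g := fun f g h =>
    (h4 _ _ (h3.comp g)).unique h fun i => rfl
  have hF1 : F 1 = 𝟙 W := hx_ext _ _ fun i => by
    rw [hF, Category.id_comp]
    exact ev_single hx i
  have hFm : ∀ φ ψ : Gq r N q, F φ ≫ F ψ = F (φ * ψ) := fun φ ψ => hx_ext _ _ fun i => by
    rw [Category.assoc, hF, hF', hF]
    rfl
  let ρ₀ : Gq r N q → Aut W.left := fun φ =>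
    { hom := (F φ⁻¹).left
      inv := (F φ).left
      hom_inv_id := by rw [← Over.comp_left, hFm, inv_mul_cancel, hF1]; rfl
      inv_hom_id := by rw [← Over.comp_left, hFm, mul_inv_cancel, hF1]; rfl }
  let ρ : ULift.{u} (Gq r N q) →* Aut W.left := MonoidHom.mk' (fun φ => ρ₀ φ.down) (fun φ ψ => by
    apply Iso.ext
    change (F (φ.down * ψ.down)⁻¹).left = (F ψ.down⁻¹).left ≫ (F φ.down⁻¹).left
    rw [← Over.comp_left, hFm, mul_inv_rev])
  have hsurj : Surjective W.hom := by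
    refine ⟨fun s => ?_⟩
    obtain ⟨Ω, _, _, t, ht⟩ := K382.TorsorQuot.exists_geomPt s
    obtain ⟨τ, hτ, hτ'⟩ := exists_basis hN hn hq (fun d hd => hcard Ω t d hd)
      (fun i => toUnit (Over.mk t) ≫ σ i) (fun i => by rw [← MonObj.comp_pow, hσ, MonObj.comp_one]) (hgen Ω t)
    have hg : Good N q σ τ := good_mk hτ
      ((gen_iff (hpowN τ hτ) (hcard Ω t N dvd_rfl)).1 hτ')
    obtain ⟨f, -, -⟩ := h4 _ _ hg
    refine ⟨f.left (IsLocalRing.closedPoint Ω), ?_⟩
    rw [← Scheme.Hom.comp_apply, Over.w]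
    exact ht _
  refine ⟨W, x, ρ, h1, h2, hsurj, ?_, h3⟩
  refine K382.TorsorQuot.isQuot W.hom ρ (fun φ => Over.w (F φ.down⁻¹)) fun Ω _ _ a b hab => ?_
  let fa : Over.mk (a ≫ W.hom) ⟶ W := Over.homMk a rfl
  let fb : Over.mk (a ≫ W.hom) ⟶ W := Over.homMk b hab.symm
  have ga := h3.comp fa
  have gb := h3.comp fb
  obtain ⟨φ, hφ, hφ'⟩ := exists_act (hpowN _ ga.pow) (hcard Ω (a ≫ W.hom) N dvd_rfl) (hpowN _ gb.pow)
    (ne_of_good h3 fa) (ne_of_good h3 fb) q (fun i => by rw [ga.pow, gb.pow])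
  let φ₀ : Gq r N q := ⟨φ.toEquiv, fun a b => φ.map_add a b, hφ⟩
  refine ⟨⟨φ₀⁻¹⟩, ?_⟩
  change a ≫ (F φ₀⁻¹⁻¹).left = b
  rw [inv_inv]
  have h5 : fa ≫ F φ₀ = fb := hx_ext _ _ fun i => by
    rw [Category.assoc, hF, comp_ev]
    have h6 := hφ' (Pi.single i 1)
    rw [ev_single (hpowN _ gb.pow)] at h6
    exact h6.symm
  exact congr($(h5).left)

end

end K382.LevCover
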