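import Groth.Prelude.Def_SGA1
import Mathlib.AlgebraicGeometry.Sites.Fpqc
import Mathlib.AlgebraicGeometry.Morphisms.Etale
import Mathlib.AlgebraicGeometry.Morphisms.UnderlyingMap
import Mathlib.FieldTheory.IsAlgClosed.AlgebraicClosure

/-!
# Étale covers with a transitive action are quotients

Let `p : W ⟶ T` be affine, étale and surjective and let the finite group `G` act on `W` over `T`, transitively on the
geometric points of `W` over each geometric point of `T`.  Then `p` is a quotient of `W` by `G` (`SGA1.IsQuot`).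
-/

set_option autoImplicit false
universe u

open CategoryTheory CategoryTheory.Limits AlgebraicGeometry Opposite Polynomial

namespace K382.TorsorQuot

/-- The morphism to the affine line given by a global function. -/
noncomputable def toA1 {X : Scheme.{u}} (s : Γ(X, ⊤)) : X ⟶ Spec (CommRingCat.of (ULift.{u} ℤ)[X]) :=
  X.toSpecΓ ≫ Spec.map (CommRingCat.ofHom
    (Polynomial.eval₂RingHom ((Int.castRingHom Γ(X, ⊤)).comp ULift.ringEquiv.toRingHom) s))

theorem comp_toA1 {X Y : Scheme.{u}} (f : X ⟶ Y) (s : Γ(Y, ⊤)) : f ≫ toA1 s = toA1 (f.appTop.hom s) := by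
  rw [toA1, toA1, Scheme.toSpecΓ_naturality_assoc, ← Spec.map_comp]
  congr 2
  ext1
  refine Polynomial.ringHom_ext' (RingHom.ext fun a => ?_) ?_
  · obtain ⟨a⟩ := a
    simp
  · simp

theorem toA1_appTop {X : Scheme.{u}} (s : Γ(X, ⊤)) :
    (toA1 s).appTop.hom ((Scheme.ΓSpecIso (CommRingCat.of (ULift.{u} ℤ)[X])).inv.hom Polynomial.X) = s := by
  rw [toA1, Scheme.Hom.comp_appTop]
  have h1 := congr($(Scheme.ΓSpecIso_inv_naturality (CommRingCat.ofHom
    (Polynomial.eval₂RingHom ((Int.castRingHom Γ(X, ⊤)).comp ULift.ringEquiv.toRingHom) s))).hom Polynomial.X)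
  simp only [CommRingCat.hom_comp, RingHom.comp_apply, CommRingCat.hom_ofHom] at h1 ⊢
  rw [← h1]
  simp only [Scheme.toSpecΓ_appTop, Polynomial.coe_eval₂RingHom, Polynomial.eval₂_X]
  exact congr($(Iso.inv_hom_id (Scheme.ΓSpecIso Γ(X, ⊤))).hom s)

theorem toA1_injective {X : Scheme.{u}} {s t : Γ(X, ⊤)} (h : toA1 s = toA1 t) : s = t := by
  rw [← toA1_appTop s, h, toA1_appTop]

theorem eq_toA1 {X : Scheme.{u}} (h : X ⟶ Spec (CommRingCat.of (ULift.{u} ℤ)[X])) :
    h = toA1 (h.appTop.hom ((Scheme.ΓSpecIso (CommRingCat.of (ULift.{u} ℤ)[X])).inv.hom Polynomial.X)) := by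
  refine ext_of_isAffine ?_
  rw [← cancel_epi (Scheme.ΓSpecIso (CommRingCat.of (ULift.{u} ℤ)[X])).inv]
  ext1
  refine Polynomial.ringHom_ext' (RingHom.ext fun a => ?_) ?_
  · obtain ⟨a⟩ := a
    have h1 : (Polynomial.C (ULift.up a) : (ULift.{u} ℤ)[X]) = (a : (ULift.{u} ℤ)[X]) := by
      rw [← Polynomial.C_eq_intCast] 
      rfl
    simp only [RingHom.comp_apply, h1, map_intCast]
  · simp only [CommRingCat.hom_comp, RingHom.comp_apply]
    rw [toA1_appTop]

/-- Geometric points. -/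
theorem exists_geomPt {X : Scheme.{u}} (z : X) : ∃ (Ω : Type u) (_ : Field Ω) (_ : IsAlgClosed Ω)
    (t : Spec (CommRingCat.of Ω) ⟶ X), ∀ q, t q = z := by
  refine ⟨AlgebraicClosure (X.residueField z), inferInstance, inferInstance,
    Spec.map (CommRingCat.ofHom (algebraMap (X.residueField z) (AlgebraicClosure (X.residueField z)))) ≫
      X.fromSpecResidueField z, fun q => ?_⟩
  have : (Spec.map (CommRingCat.ofHom (algebraMap (X.residueField z) (AlgebraicClosure (X.residueField z)))) ≫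
      X.fromSpecResidueField z) q ∈ Set.range (X.fromSpecResidueField z) := ⟨_, rfl⟩
  rw [Scheme.range_fromSpecResidueField] at this
  exact this

/-- The shear map is surjective. -/
theorem surjective_shear {W T : Scheme.{u}} (p : W ⟶ T) {G : Type u} (ρ : G → (W ⟶ W)) (hρ : ∀ g, ρ g ≫ p = p)
    (htr : ∀ (Ω : Type u) [Field Ω] [IsAlgClosed Ω] (a b : Spec (CommRingCat.of Ω) ⟶ W), a ≫ p = b ≫ p →
      ∃ g, a ≫ ρ g = b) :
    Surjective (Sigma.desc (fun g : G => pullback.lift (𝟙 W) (ρ g) ((Category.id_comp p).trans (hρ g).symm)) :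
      (∐ fun _ : G => W) ⟶ pullback p p) := by
  apply Surjective.sigmaDesc_of_union_range_eq_univ
  refine Set.eq_univ_of_forall fun z => ?_
  obtain ⟨Ω, _, _, t, ht⟩ := exists_geomPt z
  obtain ⟨g, hg⟩ := htr Ω (t ≫ pullback.fst p p) (t ≫ pullback.snd p p) (by
    rw [Category.assoc, Category.assoc, pullback.condition])
  refine Set.mem_iUnion.2 ⟨g, (t ≫ pullback.fst p p) (IsLocalRing.closedPoint Ω), ?_⟩
  rw [← Scheme.Hom.comp_apply]
  have h1 : (t ≫ pullback.fst p p) ≫ pullback.lift (𝟙 W) (ρ g) ((Category.id_comp p).trans (hρ g).symm) = t := by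
    apply pullback.hom_ext
    · rw [Category.assoc, pullback.lift_fst, Category.comp_id]
    · rw [Category.assoc, pullback.lift_snd, hg]
  rw [h1, ht]

theorem etale_shear {W T : Scheme.{u}} (p : W ⟶ T) [Etale p] {G : Type u} (ρ : G → (W ⟶ W))
    (hρ : ∀ g, ρ g ≫ p = p) :
    Etale (Sigma.desc (fun g : G => pullback.lift (𝟙 W) (ρ g) ((Category.id_comp p).trans (hρ g).symm)) :
      (∐ fun _ : G => W) ⟶ pullback p p) := by
  refine IsZariskiLocalAtSource.sigmaDesc fun g => ?_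
  have h1 : Etale (pullback.lift (𝟙 W) (ρ g) ((Category.id_comp p).trans (hρ g).symm) ≫ pullback.fst p p) := by
    rw [pullback.lift_fst]
    infer_instance
  exact .of_comp _ (pullback.fst p p)

/-- Invariant morphisms descend. -/
theorem exists_desc {W T : Scheme.{u}} (p : W ⟶ T) [Etale p] [Surjective p] {G : Type u} (ρ : G → (W ⟶ W))
    (hρ : ∀ g, ρ g ≫ p = p)
    (htr : ∀ (Ω : Type u) [Field Ω] [IsAlgClosed Ω] (a b : Spec (CommRingCat.of Ω) ⟶ W), a ≫ p = b ≫ p →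
      ∃ g, a ≫ ρ g = b) {Z : Scheme.{u}} (f : W ⟶ Z) (hf : ∀ g, ρ g ≫ f = f) : ∃ h : T ⟶ Z, p ≫ h = f := by
  have h1 := surjective_shear p ρ hρ htr
  have h2 := etale_shear p ρ hρ
  have h3 : pullback.fst p p ≫ f = pullback.snd p p ≫ f := by
    rw [← cancel_epi (Sigma.desc (fun g : G => pullback.lift (𝟙 W) (ρ g)
      ((Category.id_comp p).trans (hρ g).symm)) : (∐ fun _ : G => W) ⟶ pullback p p)]
    refine Sigma.hom_ext _ _ fun g => ?_
    rw [Sigma.ι_desc_assoc, Sigma.ι_desc_assoc, pullback.lift_fst_assoc, pullback.lift_snd_assoc, hf,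
      Category.id_comp]
  refine ⟨EffectiveEpi.desc p f fun {Y} g₁ g₂ h => ?_, EffectiveEpi.fac p f _⟩
  rw [← pullback.lift_fst g₁ g₂ h, Category.assoc, h3, pullback.lift_snd_assoc]

/-- An affine étale surjective morphism with a transitive action is a quotient. -/
theorem isQuot {W T : Scheme.{u}} (p : W ⟶ T) [IsAffineHom p] [Etale p] [Surjective p] {G : Type u} [Group G]
    (ρ : G →* Aut W) (hρ : ∀ g, (ρ g).hom ≫ p = p)
    (htr : ∀ (Ω : Type u) [Field Ω] [IsAlgClosed Ω] (a b : Spec (CommRingCat.of Ω) ⟶ W), a ≫ p = b ≫ p →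
      ∃ g, a ≫ (ρ g).hom = b) : SGA1.IsQuot ρ p := by
  have hres : ∀ (U : T.Opens), Etale (p ∣_ U) ∧ Surjective (p ∣_ U) := fun U =>
    ⟨inferInstance, IsZariskiLocalAtTarget.restrict (P := @Surjective) ‹_› U⟩
  have key : ∀ (U : T.Opens) (s : Γ(T, U)), toA1 ((p ⁻¹ᵁ U).topIso.inv.hom ((p.app U).hom s)) =
      (p ∣_ U) ≫ toA1 (U.topIso.inv.hom s) := by
    intro U s
    rw [comp_toA1]
    congr 1
    have h := Scheme.Hom.resLE_app_top (f := p) (U := U) (V := p ⁻¹ᵁ U) (e := le_rfl)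
    rw [Scheme.Hom.resLE_eq_morphismRestrict, Scheme.Hom.appLE_eq_app] at h
    have h' : (p ∣_ U).appTop = U.topIso.hom ≫ p.app U ≫ (p ⁻¹ᵁ U).topIso.inv := h
    rw [h', ← CommRingCat.comp_apply, ← CommRingCat.comp_apply, Iso.inv_hom_id_assoc]
  have topinj : ∀ (X : Scheme.{u}) (V : X.Opens), Function.Injective V.topIso.inv.hom := fun X V =>
    (ConcreteCategory.bijective_of_isIso V.topIso.inv).1
  refine ⟨inferInstance, hρ, fun U s t hst => ?_, fun U s => ⟨?_, fun hs => ?_⟩⟩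
  · have h1 := (hres U).1
    have h2 := (hres U).2
    apply topinj _ U
    apply toA1_injective
    rw [← cancel_epi (p ∣_ U), ← key, ← key, hst]
  · rintro ⟨t, rfl⟩ g
    rw [← Scheme.Hom.appLE_eq_app, ← CommRingCat.comp_apply, Scheme.Hom.appLE_comp_appLE]
    have h : ∀ (f : W ⟶ T) (e : p ⁻¹ᵁ U ≤ f ⁻¹ᵁ U), f = p → f.appLE U (p ⁻¹ᵁ U) e = p.appLE U (p ⁻¹ᵁ U) le_rfl := by
      rintro f e rfl
      rfl
    rw [h _ _ (hρ g)]
  · have h1 := (hres U).1
    have h2 := (hres U).2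
    let ρU : G → ((p ⁻¹ᵁ U).toScheme ⟶ (p ⁻¹ᵁ U).toScheme) := fun g =>
      (ρ g).hom.resLE (p ⁻¹ᵁ U) (p ⁻¹ᵁ U) (SGA1.preimage_le_of_inv ρ p hρ g U)
    have hρU : ∀ g, ρU g ≫ (p ⁻¹ᵁ U).ι = (p ⁻¹ᵁ U).ι ≫ (ρ g).hom := fun g => Scheme.Hom.resLE_comp_ι _ _
    obtain ⟨h, hh⟩ := exists_desc (p ∣_ U) ρU
      (fun g => by
        rw [← cancel_mono U.ι, Category.assoc, morphismRestrict_ι, reassoc_of% hρU, hρ])
      (fun Ω _ _ a b hab => by
        obtain ⟨g, hg⟩ := htr Ω (a ≫ (p ⁻¹ᵁ U).ι) (b ≫ (p ⁻¹ᵁ U).ι) (by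
          rw [Category.assoc, Category.assoc, ← morphismRestrict_ι, reassoc_of% hab])
        refine ⟨g, ?_⟩
        rw [← cancel_mono (p ⁻¹ᵁ U).ι, Category.assoc, hρU, ← hg, Category.assoc])
      (toA1 ((p ⁻¹ᵁ U).topIso.inv.hom s)) (fun g => by
        rw [comp_toA1]
        congr 1
        have h := Scheme.Hom.resLE_app_top (f := (ρ g).hom) (U := p ⁻¹ᵁ U) (V := p ⁻¹ᵁ U)
          (e := SGA1.preimage_le_of_inv ρ p hρ g U)
        have h' : (ρU g).appTop = (p ⁻¹ᵁ U).topIso.hom ≫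
          (ρ g).hom.appLE (p ⁻¹ᵁ U) (p ⁻¹ᵁ U) (SGA1.preimage_le_of_inv ρ p hρ g U) ≫
            (p ⁻¹ᵁ U).topIso.inv := h
        rw [h', ← CommRingCat.comp_apply, Iso.inv_hom_id_assoc, CommRingCat.comp_apply]
        rw [hs g])
    refine ⟨U.topIso.hom.hom (h.appTop.hom
      ((Scheme.ΓSpecIso (CommRingCat.of (ULift.{u} ℤ)[X])).inv.hom Polynomial.X)), ?_⟩
    apply topinj _ (p ⁻¹ᵁ U)
    apply toA1_injective
    rw [key, ← hh]
    congr 1
    rw [← CommRingCat.comp_apply, Iso.hom_inv_id, CommRingCat.id_apply, ← eq_toA1]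

end K382.TorsorQuot
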