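import Groth.Agent.AgPol.K814.ExactOrder
import Groth.Agent.AgPol.K382.LevEv
import Groth.Agent.AgPol.K382.TorsorQuot

/-!
# The scheme of full level structures lifting a level structure
-/

set_option autoImplicit false
universe u

open CategoryTheory CategoryTheory.Limits MonoidalCategory CartesianMonoidalCategory MonObj AlgebraicGeometry

namespace K382.LevScheme

open K814.AbBasic K814.ExactOrder K382.LevAlg

/-- Finite products of finite étale schemes over the base. -/
theorem exists_prod {S : Scheme.{u}} (r : ℕ) (P : Fin r → Over S) (hf : ∀ i, IsFinite (P i).hom)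
    (he : ∀ i, Etale (P i).hom) :
    ∃ (W : Over S) (π : ∀ i, W ⟶ P i), IsFinite W.hom ∧ Etale W.hom ∧
      ∀ (T : Over S) (t : ∀ i, T ⟶ P i), ∃! f : T ⟶ W, ∀ i, f ≫ π i = t i := by
  induction r with
  | zero =>
    refine ⟨𝟙_ (Over S), fun i => i.elim0, inferInstanceAs (IsFinite (𝟙 S)), inferInstanceAs (Etale (𝟙 S)),
      fun T t => ⟨toUnit T, fun i => i.elim0, fun f _ => toUnit_unique _ _⟩⟩
  | succ r ih =>
    obtain ⟨W, π, h1, h2, h3⟩ := ih (fun i => P i.succ) (fun i => hf _) (fun i => he _)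
    have := hf 0
    have := he 0
    refine ⟨P 0 ⊗ W, Fin.cases (fst _ _) (fun i => snd _ _ ≫ π i), ?_, ?_, fun T t => ?_⟩
    · rw [Over.tensorObj_hom]
      infer_instance
    · rw [Over.tensorObj_hom]
      infer_instance
    · obtain ⟨f, hf, hu⟩ := h3 T (fun i => t i.succ)
      refine ⟨lift (t 0) f, fun i => ?_, fun f' hf' => ?_⟩
      · refine Fin.cases ?_ (fun i => ?_) i
        · exact lift_fst _ _
        · change lift (t 0) f ≫ snd _ _ ≫ π i = _
          rw [lift_snd_assoc]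
          exact hf i
      · apply CartesianMonoidalCategory.hom_ext
        · rw [lift_fst]
          exact hf' 0
        · rw [lift_snd]
          refine hu _ fun i => ?_
          rw [Category.assoc]
          exact hf' i.succ

section roots

variable {S : Scheme.{u}} (A : Over S) [GrpObj A]

/-- The scheme of `q`-th roots of a section. -/
noncomputable def roots (q : ℕ) (s : 𝟙_ (Over S) ⟶ A) : Over S :=
  Over.mk (pullback.snd (𝟙 A ^ q : A ⟶ A).left s.left)

/-- Its inclusion. -/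
noncomputable def rootsι (q : ℕ) (s : 𝟙_ (Over S) ⟶ A) : roots A q s ⟶ A :=
  Over.homMk (pullback.fst (𝟙 A ^ q : A ⟶ A).left s.left) (by
    have h1 : (𝟙 A ^ q : A ⟶ A).left ≫ A.hom = A.hom := Over.w _
    have h2 : s.left ≫ A.hom = 𝟙 S := Over.w s
    have h3 : pullback.fst (𝟙 A ^ q : A ⟶ A).left s.left ≫ A.hom =
        pullback.snd (𝟙 A ^ q : A ⟶ A).left s.left := by
      conv_lhs => rw [← h1]
      rw [← Category.assoc, pullback.condition, Category.assoc, h2]
      exact Category.comp_id _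
    exact h3)

theorem rootsι_pow (q : ℕ) (s : 𝟙_ (Over S) ⟶ A) : rootsι A q s ^ q = toUnit _ ≫ s := by
  rw [← comp_powId]
  ext1
  change pullback.fst _ _ ≫ _ = pullback.snd _ _ ≫ s.left
  exact pullback.condition

theorem exists_root {q : ℕ} {s : 𝟙_ (Over S) ⟶ A} {T : Over S} (x : T ⟶ A) (hx : x ^ q = toUnit _ ≫ s) :
    ∃ y : T ⟶ roots A q s, y ≫ rootsι A q s = x := by
  have h : x.left ≫ (𝟙 A ^ q : A ⟶ A).left = T.hom ≫ s.left := by
    rw [← Over.comp_left, comp_powId, hx]
    rfl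
  refine ⟨Over.homMk (pullback.lift _ _ h) (pullback.lift_snd _ _ _), ?_⟩
  ext1
  exact pullback.lift_fst _ _ _

instance isClosedImmersion_section [IsSeparated A.hom] (s : 𝟙_ (Over S) ⟶ A) : IsClosedImmersion s.left := by
  have h2 : s.left ≫ A.hom = 𝟙 S := Over.w s
  have : IsClosedImmersion (s.left ≫ A.hom) := by
    rw [h2]
    exact inferInstanceAs (IsClosedImmersion (𝟙 S))
  exact IsClosedImmersion.of_comp _ A.hom

instance mono_rootsι [IsSeparated A.hom] (q : ℕ) (s : 𝟙_ (Over S) ⟶ A) : Mono (rootsι A q s) := by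
  have h : IsClosedImmersion (rootsι A q s).left :=
    inferInstanceAs (IsClosedImmersion (pullback.fst (𝟙 A ^ q : A ⟶ A).left s.left))
  exact (Over.forget S).mono_of_mono_map (show Mono (rootsι A q s).left from inferInstance)

variable [Smooth A.hom] [IsProper A.hom] [GeometricallyConnected A.hom]

theorem etale_roots {q : ℕ} (hq : IsUnit (q : Γ(S, ⊤))) (s : 𝟙_ (Over S) ⟶ A) : Etale (roots A q s).hom := by
  have := etale_pow A hq
  exact inferInstanceAs (Etale (pullback.snd (𝟙 A ^ q : A ⟶ A).left s.left))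

theorem isFinite_roots {q : ℕ} (hq : IsUnit (q : Γ(S, ⊤))) (s : 𝟙_ (Over S) ⟶ A) :
    IsFinite (roots A q s).hom := by
  have := isFinite_pow A hq
  exact inferInstanceAs (IsFinite (pullback.snd (𝟙 A ^ q : A ⟶ A).left s.left))

end roots

section good

variable {S : Scheme.{u}} {A : Over S} [GrpObj A] [IsCommMonObj A]

/-- Precomposition is a homomorphism. -/
def pre {T T' : Over S} (f : T' ⟶ T) : (T ⟶ A) →* (T' ⟶ A) where
  toFun x := f ≫ x
  map_one' := MonObj.comp_one f
  map_mul' x y := MonObj.comp_mul f x y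

theorem pre_apply {T T' : Over S} (f : T' ⟶ T) (x : T ⟶ A) : pre f x = f ≫ x := rfl

theorem comp_ev {T T' : Over S} (f : T' ⟶ T) {r N : ℕ} (x : Fin r → (T ⟶ A)) (a : Fin r → ZMod N) :
    f ≫ ev x a = ev (fun i => f ≫ x i) a := map_ev (pre f) x a

/-- A family of points with `x i ^ q = σ i` which is linearly independent mod `N` at all geometric points. -/
structure Good {r : ℕ} (N q : ℕ) (σ : Fin r → (𝟙_ (Over S) ⟶ A)) {T : Over S} (x : Fin r → (T ⟶ A)) : Prop where
  pow : ∀ i, x i ^ q = toUnit T ≫ σ i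
  ne : ∀ (Ω : Type u) [Field Ω] [IsAlgClosed Ω] (t : Spec (CommRingCat.of Ω) ⟶ T.left) (a : Fin r → ZMod N),
    a ≠ 0 → (Over.homMk t rfl : Over.mk (t ≫ T.hom) ⟶ T) ≫ ev x a ≠ 1

theorem Good.comp {r N q : ℕ} {σ : Fin r → (𝟙_ (Over S) ⟶ A)} {T T' : Over S} {x : Fin r → (T ⟶ A)}
    (h : Good N q σ x) (f : T' ⟶ T) : Good N q σ (fun i => f ≫ x i) where
  pow i := by
    rw [← MonObj.comp_pow, h.pow, ← Category.assoc]
    congr 1
    exact toUnit_unique _ _
  ne Ω _ _ t a ha h1 := by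
    refine h.ne Ω (t ≫ f.left) a ha ?_
    rw [← comp_ev] at h1
    have h2 : t ≫ T'.hom = (t ≫ f.left) ≫ T.hom := by rw [Category.assoc, Over.w]
    obtain ⟨k, hk⟩ : ∃ k : Over.mk ((t ≫ f.left) ≫ T.hom) ⟶ Over.mk (t ≫ T'.hom),
        (Over.homMk (t ≫ f.left) rfl : Over.mk ((t ≫ f.left) ≫ T.hom) ⟶ T) =
          k ≫ (Over.homMk t rfl : Over.mk (t ≫ T'.hom) ⟶ T') ≫ f := by
      refine ⟨Over.homMk (𝟙 _) ((Category.id_comp _).trans h2), ?_⟩
      ext1
      exact (Category.id_comp _).symm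
    refine (congrArg (· ≫ ev x a) hk).trans ((Category.assoc k _ _).trans ?_)
    exact (congrArg (k ≫ ·) ((Category.assoc _ _ _).trans h1)).trans (MonObj.comp_one k)

/-- Points with values in the spectrum of a field which factor through the unit. -/
theorem mem_range_iff_aux [IsSeparated A.hom] {N : ℕ} (j : tors A 1 ⟶ tors A N) (hj : j ≫ torsι A N = torsι A 1)
    {T : Over S} (y : T ⟶ tors A N) (hy : y ≫ torsι A N = 1) : ∃ z : T ⟶ tors A 1, z ≫ j = y := by
  obtain ⟨z, hz⟩ := exists_lift A (1 : T ⟶ A) (n := 1) (one_pow 1)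
  refine ⟨z, ?_⟩
  rw [← cancel_mono (torsι A N), Category.assoc, hj, hz, hy]

theorem torsι_one : torsι A 1 = 1 := by
  rw [← pow_one (torsι A 1), torsι_pow]

variable [Smooth A.hom] [IsProper A.hom] [GeometricallyConnected A.hom]

/-- The scheme of full level `N` structures lifting a given family of `n`-torsion sections. -/
theorem exists_univ {r N n q : ℕ} (hN : N = n * q) (hn : 1 ≤ n) (hq : 1 ≤ q) (hu : IsUnit (N : Γ(S, ⊤)))
    (σ : Fin r → (𝟙_ (Over S) ⟶ A)) (hσ : ∀ i, σ i ^ n = 1) :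
    ∃ (W : Over S) (x : Fin r → (W ⟶ A)), IsFinite W.hom ∧ Etale W.hom ∧ Good N q σ x ∧
      ∀ (T : Over S) (y : Fin r → (T ⟶ A)), Good N q σ y → ∃! f : T ⟶ W, ∀ i, f ≫ x i = y i := by
  have hNZ : NeZero N := ⟨by rw [hN]; positivity⟩
  have hqu : IsUnit (q : Γ(S, ⊤)) := isUnit_of_dvd ⟨n, by rw [hN, mul_comm]⟩ hu
  obtain ⟨W₀, π, hfin, het, huniv⟩ := exists_prod r (fun i => roots A q (σ i))
    (fun i => isFinite_roots A hqu (σ i)) (fun i => etale_roots A hqu (σ i))
  let x₀ : Fin r → (W₀ ⟶ A) := fun i => π i ≫ rootsι A q (σ i)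
  have hpow : ∀ i, x₀ i ^ q = toUnit W₀ ≫ σ i := fun i => by
    change (π i ≫ rootsι A q (σ i)) ^ q = _
    rw [← MonObj.comp_pow, rootsι_pow, ← Category.assoc]
    congr 1
    exact toUnit_unique _ _
  have hpowN : ∀ {T : Over S} (y : Fin r → (T ⟶ A)), (∀ i, y i ^ q = toUnit T ≫ σ i) → ∀ i, y i ^ N = 1 := by
    intro T y hy i
    rw [hN, mul_comm, pow_mul, hy, ← MonObj.comp_pow, hσ, MonObj.comp_one]
  choose y hy using fun a : Fin r → ZMod N => exists_lift A (ev x₀ a) (ev_pow (hpowN x₀ hpow) a)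
  obtain ⟨j, hj⟩ := exists_incl A (one_dvd N)
  obtain ⟨hj1, hj2⟩ := incl_props A (one_dvd N) hu j hj
  let C : Set W₀.left := ⋃ a : {a : Fin r → ZMod N // a ≠ 0}, (y a.1).left ⁻¹' (Set.range j.left)
  have hC : IsClosed C := isClosed_iUnion_of_finite fun a => hj2.preimage (y a.1).left.continuous
  have hC' : IsOpen C := isOpen_iUnion fun a =>
    (j.left.isOpenEmbedding.isOpen_range).preimage (y a.1).left.continuous
  let U : W₀.left.Opens := ⟨Cᶜ, hC.isOpen_compl⟩
  have hU : IsClosedImmersion U.ι := by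
    apply IsClosedImmersion.of_isPreimmersion
    rw [Scheme.Opens.range_ι]
    exact hC'.isClosed_compl
  let W : Over S := Over.mk (U.ι ≫ W₀.hom)
  let i : W ⟶ W₀ := Over.homMk U.ι rfl
  have hi : Mono i := (Over.forget S).mono_of_mono_map (show Mono U.ι from inferInstance)
  refine ⟨W, fun l => i ≫ x₀ l, inferInstanceAs (IsFinite (U.ι ≫ W₀.hom)),
    inferInstanceAs (Etale (U.ι ≫ W₀.hom)), ⟨fun l => ?_, fun Ω _ _ t a ha h1 => ?_⟩, fun T z hz => ?_⟩
  · rw [← MonObj.comp_pow, hpow, ← Category.assoc]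
    congr 1
  · rw [← comp_ev, ← hy] at h1
    obtain ⟨w, hw⟩ := mem_range_iff_aux j hj
      ((Over.homMk t rfl : Over.mk (t ≫ W.hom) ⟶ W) ≫ i ≫ y a) (by simpa only [Category.assoc] using h1)
    have h5 : w.left ≫ j.left = t ≫ U.ι ≫ (y a).left := congr($(hw).left)
    let p : Spec (CommRingCat.of Ω) := IsLocalRing.closedPoint Ω
    have h6 : U.ι (t p) ∈ U := (t p).2
    have h7 : U.ι (t p) ∈ C := by
      refine Set.mem_iUnion.2 ⟨⟨a, ha⟩, w.left p, ?_⟩
      rw [← Scheme.Hom.comp_apply, h5]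
      rfl
    exact h6 h7
  · choose c hc using fun l => exists_root A (z l) (hz.pow l)
    obtain ⟨v, hv, hvu⟩ := huniv T c
    have hvx : ∀ l, v ≫ x₀ l = z l := fun l => by
      change v ≫ π l ≫ rootsι A q (σ l) = z l
      rw [← Category.assoc, hv, hc]
    have h4 : Set.range v.left ⊆ Set.range U.ι := by
      rintro _ ⟨τ, rfl⟩
      rw [Scheme.Opens.range_ι]
      intro hmem
      obtain ⟨⟨a, ha⟩, hdm⟩ := Set.mem_iUnion.1 hmem
      obtain ⟨Ω, _, _, t, ht⟩ := K382.TorsorQuot.exists_geomPt τ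
      have h5 : Set.range (t ≫ v.left ≫ (y a).left) ⊆ Set.range j.left := by
        rintro _ ⟨p, rfl⟩
        rw [Scheme.Hom.comp_apply, ht]
        exact hdm
      obtain ⟨w, hw⟩ := factors_of_mem_range j.left _ h5
      refine hz.ne Ω t a ha ?_
      let w' : Over.mk (t ≫ T.hom) ⟶ tors A 1 := Over.homMk w (by
        rw [← Over.w j, reassoc_of% hw]
        change t ≫ v.left ≫ (y a).left ≫ (tors A N).hom = t ≫ T.hom
        rw [Over.w, Over.w])
      have h7 : (Over.homMk t rfl : Over.mk (t ≫ T.hom) ⟶ T) ≫ v ≫ y a = w' ≫ j := by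
        ext1
        exact hw.symm
      have h8 : ev z a = v ≫ y a ≫ torsι A N := by
        rw [hy, comp_ev]
        congr 1
        exact funext fun l => (hvx l).symm
      rw [h8, ← Category.assoc v, ← Category.assoc, h7, Category.assoc, hj, torsι_one, MonObj.comp_one]
    obtain ⟨w, hw⟩ := factors_of_mem_range U.ι _ h4
    let w' : T ⟶ W := Over.homMk w (by
      change w ≫ U.ι ≫ W₀.hom = T.hom
      rw [reassoc_of% hw, Over.w])
    have hw' : w' ≫ i = v := by
      ext1
      exact hw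
    refine ⟨w', fun l => ?_, fun f hf => ?_⟩
    · change w' ≫ i ≫ x₀ l = z l
      rw [← Category.assoc, hw', hvx]
    · rw [← cancel_mono i, hw']
      refine hvu _ fun l => ?_
      rw [← cancel_mono (rootsι A q (σ l)), Category.assoc, Category.assoc, hc]
      exact hf l

end good

end K382.LevScheme
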